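import Mathlib
import Groth.Agent.S2009

/-!
# Torsion modules along a flat map which is bijective modulo an ideal
-/

universe u

open TensorProduct

namespace Groth.Agent.FlatGlue

variable {R S : Type u} [CommRing R] [CommRing S] [Algebra R S] {I : Ideal R}

/-- `M → S ⊗ M` is bijective for `I`-power torsion `M`. -/
theorem bijective_mk [Module.Flat R S]
    (hq : Function.Bijective (Ideal.quotientMap (I.map (algebraMap R S)) (algebraMap R S) Ideal.le_comap_map))
    (M : Type u) [AddCommGroup M] [Module R M] (hM : ∀ m : M, ∃ n : ℕ, ∀ a ∈ I ^ n, a • m = 0) :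
    Function.Bijective (TensorProduct.mk R S M 1) := by
  let e : (R ⧸ I) ≃ₗ[R ⧸ I] S ⧸ I.map (algebraMap R S) :=
    LinearEquiv.ofBijective (Algebra.linearMap (R ⧸ I) (S ⧸ I.map (algebraMap R S))) hq
  haveI : Module.FaithfullyFlat (R ⧸ I) (S ⧸ I.map (algebraMap R S)) :=
    Module.FaithfullyFlat.of_linearEquiv (R ⧸ I) (R ⧸ I) e.symm
  exact (S2009.result R S I).mpr hq M hM

variable (S) in
/-- If `q ↦ 1 ⊗ q` is surjective onto `S ⊗ Q` and `Q` is an `S`-module, then `s ⊗ q ↦ s • q` is injective. -/
theorem injective_liftBaseChange {Q : Type u} [AddCommGroup Q] [Module R Q] [Module S Q] [IsScalarTower R S Q]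
    (hQ : Function.Surjective (TensorProduct.mk R S Q 1)) :
    Function.Injective ((LinearMap.id (R := R) (M := Q)).liftBaseChange S) := by
  rw [injective_iff_map_eq_zero]
  intro z hz
  obtain ⟨q, rfl⟩ := hQ z
  rw [TensorProduct.mk_apply, LinearMap.liftBaseChange_tmul, one_smul, LinearMap.id_apply] at hz
  rw [hz, map_zero]

end Groth.Agent.FlatGlue
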