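import Mathlib
import Groth.Agent.FlatGlue.Torsion

/-!
# The glueing complex of a module

For a flat map `R → S` which is bijective modulo `I = (f_i)` and an `R`-module `M`, the sequence
`M → (S ⊗ M) × ∏ M_{f_i} → ∏ (S ⊗ M)_{f_i} × ∏ M_{f_i f_j}` is exact on the left and in the middle,
and every cocycle in `∏ S ⊗ M_{f_i}` comes from `S ⊗ M` and a cocycle in `∏ M_{f_i}`.
-/

universe u

open TensorProduct

namespace Groth.Agent.FlatGlue

variable {R S : Type u} [CommRing R] [CommRing S] [Algebra R S] {ι : Type} (f : ι → R)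
  (M : Type u) [AddCommGroup M] [Module R M]

/-- `M_{f_i}`. -/
abbrev Lf (i : ι) : Type u := LocalizedModule (Submonoid.powers (f i)) M

/-- `M → M_{f_i}`. -/
noncomputable abbrev mk₁ (i : ι) : M →ₗ[R] Lf f M i :=
  LocalizedModule.mkLinearMap (Submonoid.powers (f i)) M

/-- `M_{f_i f_j}`. -/
abbrev Lf₂ (p : ι × ι) : Type u := LocalizedModule (Submonoid.powers (f p.1 * f p.2)) M

/-- `M → M_{f_i f_j}`. -/
noncomputable abbrev mk₂ (p : ι × ι) : M →ₗ[R] Lf₂ f M p :=
  LocalizedModule.mkLinearMap (Submonoid.powers (f p.1 * f p.2)) M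

theorem isUnit_of_dvd {r a : R} (h : r ∣ a) (N : Type u) [AddCommGroup N] [Module R N]
    (g : M →ₗ[R] N) [IsLocalizedModule (Submonoid.powers a) g] (s : Submonoid.powers r) :
    IsUnit (algebraMap R (Module.End R N) s) := by
  obtain ⟨n, hn⟩ := s.2
  obtain ⟨c, hc⟩ := h
  have h1 : IsUnit (algebraMap R (Module.End R N) (a ^ n)) :=
    IsLocalizedModule.map_units g (⟨a ^ n, n, rfl⟩ : Submonoid.powers a)
  rw [show (a ^ n : R) = (s : R) * c ^ n by rw [← hn, hc, mul_pow], map_mul] at h1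
  exact ((Commute.isUnit_mul_iff (Algebra.commutes (s : R) _)).mp h1).1

/-- `M_{f_i} → M_{f_i f_j}`. -/
noncomputable def resL (p : ι × ι) : Lf f M p.1 →ₗ[R] Lf₂ f M p :=
  IsLocalizedModule.lift (Submonoid.powers (f p.1)) (mk₁ f M p.1) (mk₂ f M p)
    fun s => isUnit_of_dvd M (a := f p.1 * f p.2) (dvd_mul_right _ _) _ (mk₂ f M p) s

/-- `M_{f_j} → M_{f_i f_j}`. -/
noncomputable def resR (p : ι × ι) : Lf f M p.2 →ₗ[R] Lf₂ f M p :=
  IsLocalizedModule.lift (Submonoid.powers (f p.2)) (mk₁ f M p.2) (mk₂ f M p)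
    fun s => isUnit_of_dvd M (a := f p.1 * f p.2) (dvd_mul_left _ _) _ (mk₂ f M p) s

theorem resL_mk (p : ι × ι) (m : M) : resL f M p (mk₁ f M p.1 m) = mk₂ f M p m := by
  rw [resL, IsLocalizedModule.lift_apply]

theorem resR_mk (p : ι × ι) (m : M) : resR f M p (mk₁ f M p.2 m) = mk₂ f M p m := by
  rw [resR, IsLocalizedModule.lift_apply]

/-- `M → ∏ M_{f_i}`. -/
noncomputable def d₀ : M →ₗ[R] Π i, Lf f M i := LinearMap.pi (mk₁ f M)

/-- `∏ M_{f_i} → ∏ M_{f_i f_j}`. -/
noncomputable def d₁ : (Π i, Lf f M i) →ₗ[R] Π p, Lf₂ f M p :=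
  LinearMap.pi fun p => resL f M p ∘ₗ LinearMap.proj p.1 - resR f M p ∘ₗ LinearMap.proj p.2

theorem d₁_apply (x : Π i, Lf f M i) (p : ι × ι) :
    d₁ f M x p = resL f M p (x p.1) - resR f M p (x p.2) := rfl

theorem d₁_d₀ (m : M) : d₁ f M (d₀ f M m) = 0 :=
  funext fun p => sub_eq_zero.mpr ((resL_mk f M p m).trans (resR_mk f M p m).symm)

variable {M}

theorem eq_zero_of_pow_smul {i : ι} {x : Lf f M i} {n : ℕ} (h : f i ^ n • x = 0) : x = 0 :=
  ((Module.End.isUnit_iff _).mp (IsLocalizedModule.map_units (mk₁ f M i)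
    (⟨f i ^ n, n, rfl⟩ : Submonoid.powers (f i)))).1 (by rw [map_zero]; exact h)

theorem pow_mem_range [Finite ι] {x : Π i, Lf f M i} (hx : d₁ f M x = 0) (j : ι) :
    ∃ K : ℕ, f j ^ K • x ∈ LinearMap.range (d₀ f M) := by
  classical
  cases nonempty_fintype ι
  obtain ⟨⟨m, s⟩, hm⟩ := IsLocalizedModule.surj (Submonoid.powers (f j)) (mk₁ f M j) (x j)
  obtain ⟨n, hn⟩ := s.2
  simp only [Submonoid.smul_def] at hm
  rw [← hn] at hm
  have hc : ∀ i, ∃ c : ℕ, f j ^ c • (f j ^ n • x i - mk₁ f M i m) = 0 := by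
    intro i
    obtain ⟨⟨a, t⟩, ha⟩ := IsLocalizedModule.surj (Submonoid.powers (f i)) (mk₁ f M i) (x i)
    obtain ⟨k, hk⟩ := t.2
    simp only [Submonoid.smul_def] at ha
    rw [← hk] at ha
    have h1 : resL f M (i, j) (x i) = resR f M (i, j) (x j) := sub_eq_zero.mp (congrFun hx (i, j))
    have h2 : mk₂ f M (i, j) (f j ^ n • a) = mk₂ f M (i, j) (f i ^ k • m) := by
      have ea : mk₂ f M (i, j) a = f i ^ k • resL f M (i, j) (x i) := by
        rw [← map_smul]; exact ((congrArg (resL f M (i, j)) ha).trans (resL_mk f M (i, j) a)).symm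
      have em : mk₂ f M (i, j) m = f j ^ n • resR f M (i, j) (x j) := by
        rw [← map_smul]; exact ((congrArg (resR f M (i, j)) hm).trans (resR_mk f M (i, j) m)).symm
      rw [map_smul, map_smul, ea, em, h1, smul_comm]
    obtain ⟨⟨_, c, rfl⟩, hc⟩ :=
      (IsLocalizedModule.eq_iff_exists (Submonoid.powers (f i * f j)) (mk₂ f M (i, j))).mp h2
    refine ⟨c, eq_zero_of_pow_smul f (i := i) (n := c + k) ?_⟩
    have h3 := congrArg (mk₁ f M i) hc
    simp only [Submonoid.smul_def, map_smul, ← ha, smul_smul, mul_pow] at h3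
    rw [smul_sub, smul_sub, smul_smul, smul_smul, smul_smul, sub_eq_zero, pow_add]
    convert h3 using 2 <;> ring
  choose c hc using hc
  refine ⟨Finset.univ.sup c + n, f j ^ (Finset.univ.sup c) • m, funext fun i => ?_⟩
  have h4 : f j ^ (Finset.univ.sup c) • (f j ^ n • x i - mk₁ f M i m) = 0 := by
    obtain ⟨e, he⟩ := Nat.exists_eq_add_of_le (Finset.le_sup (f := c) (Finset.mem_univ i))
    rw [he, add_comm, pow_add, mul_smul, hc, smul_zero]
  rw [smul_sub, smul_smul, ← pow_add, sub_eq_zero] at h4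
  show mk₁ f M i (f j ^ (Finset.univ.sup c) • m) = f j ^ (Finset.univ.sup c + n) • x i
  rw [map_smul, h4]

theorem exists_pow_mem [Finite ι] {x : Π i, Lf f M i} (hx : d₁ f M x = 0) :
    ∃ n : ℕ, ∀ a ∈ Ideal.span (Set.range f) ^ n, a • x ∈ LinearMap.range (d₀ f M) := by
  choose K hK using pow_mem_range f hx
  obtain ⟨n, hn⟩ : ∃ n : ℕ, Ideal.span (Set.range f) ^ n ≤ Ideal.span (Set.range fun j => f j ^ K j) := by
    refine Ideal.exists_pow_le_of_le_radical_of_fg ?_ (Submodule.fg_span (Set.finite_range f))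
    rw [Ideal.span_le]
    rintro _ ⟨j, rfl⟩
    exact ⟨K j, Ideal.subset_span ⟨j, rfl⟩⟩
  refine ⟨n, fun a ha => ?_⟩
  have : Ideal.span (Set.range fun j => f j ^ K j) ≤
      (LinearMap.range (d₀ f M)).comap (LinearMap.toSpanSingleton R _ x) := by
    rw [Ideal.span_le]
    rintro _ ⟨j, rfl⟩
    exact hK j
  exact this (hn ha)

theorem ker_d₀_torsion [Finite ι] {m : M} (hm : d₀ f M m = 0) :
    ∃ n : ℕ, ∀ a ∈ Ideal.span (Set.range f) ^ n, a • m = 0 := by
  have hK : ∀ j, ∃ k : ℕ, f j ^ k • m = 0 := fun j => by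
    obtain ⟨⟨_, k, rfl⟩, hk⟩ :=
      (IsLocalizedModule.eq_zero_iff (Submonoid.powers (f j)) (mk₁ f M j)).mp (congrFun hm j)
    exact ⟨k, hk⟩
  choose K hK using hK
  obtain ⟨n, hn⟩ : ∃ n : ℕ, Ideal.span (Set.range f) ^ n ≤ Ideal.span (Set.range fun j => f j ^ K j) := by
    refine Ideal.exists_pow_le_of_le_radical_of_fg ?_ (Submodule.fg_span (Set.finite_range f))
    rw [Ideal.span_le]
    rintro _ ⟨j, rfl⟩
    exact ⟨K j, Ideal.subset_span ⟨j, rfl⟩⟩
  refine ⟨n, fun a ha => ?_⟩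
  have : Ideal.span (Set.range fun j => f j ^ K j) ≤ LinearMap.ker (LinearMap.toSpanSingleton R M m) := by
    rw [Ideal.span_le]
    rintro _ ⟨j, rfl⟩
    exact hK j
  exact this (hn ha)

variable (S) (M) in
/-- `S ⊗ M → S ⊗ M_{f_i}`. -/
noncomputable abbrev ell (i : ι) : S ⊗[R] M →ₗ[R] S ⊗[R] Lf f M i := (mk₁ f M i).lTensor S

instance isLocalizedModule_lTensor {L : Type u} [AddCommGroup L] [Module R L] (s : Submonoid R)
    (g : M →ₗ[R] L) [IsLocalizedModule s g] : IsLocalizedModule s (g.lTensor S) := by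
  have h : IsLocalizedModule s (AlgebraTensorModule.rTensor R S g) := inferInstance
  have e : g.lTensor S = (TensorProduct.comm R L S).toLinearMap ∘ₗ
      AlgebraTensorModule.rTensor R S g ∘ₗ (TensorProduct.comm R S M).toLinearMap := by
    ext a b; simp
  rw [e]
  have h' := IsLocalizedModule.of_linearEquiv_right s (AlgebraTensorModule.rTensor R S g) (TensorProduct.comm R S M)
  exact IsLocalizedModule.of_linearEquiv s _ (TensorProduct.comm R L S)

section Exactness

variable [Finite ι] [Module.Flat R S] {I : Ideal R} (hI : Ideal.span (Set.range f) = I)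
  (hq : Function.Bijective (Ideal.quotientMap (I.map (algebraMap R S)) (algebraMap R S) Ideal.le_comap_map))

include hI hq

/-- Left exactness. -/
theorem eq_zero {m : M} (h1 : (1 : S) ⊗ₜ[R] m = 0) (h2 : d₀ f M m = 0) : m = 0 := by
  have hb := bijective_mk hq (LinearMap.ker (d₀ f M)) fun k => by
    obtain ⟨n, hn⟩ := ker_d₀_torsion f (LinearMap.mem_ker.mp k.2)
    exact ⟨n, fun a ha => Subtype.ext (hn a (hI ▸ ha))⟩
  have : (⟨m, h2⟩ : LinearMap.ker (d₀ f M)) = 0 := hb.1 (by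
    apply Module.Flat.lTensor_preserves_injective_linearMap (M := S) (LinearMap.ker (d₀ f M)).subtype
      (LinearMap.ker (d₀ f M)).injective_subtype
    rw [map_zero, map_zero, TensorProduct.mk_apply, LinearMap.lTensor_tmul]
    exact h1)
  exact congrArg Subtype.val this

/-- Exactness in the middle. -/
theorem exists_eq (x : S ⊗[R] M) (c : Π i, Lf f M i) (hc : d₁ f M c = 0)
    (hxc : ∀ i, ell S f M i x = (1 : S) ⊗ₜ[R] c i) : ∃ μ : M, (1 : S) ⊗ₜ[R] μ = x ∧ d₀ f M μ = c := by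
  classical
  cases nonempty_fintype ι
  let Z := LinearMap.ker (d₁ f M)
  letI : AddCommGroup Z := Submodule.addCommGroup Z
  let e₀ : M →ₗ[R] Z := LinearMap.codRestrict Z (d₀ f M) (d₁_d₀ f M)
  have hsub : Z.subtype ∘ₗ e₀ = d₀ f M := rfl
  have hQb := bijective_mk hq (Z ⧸ LinearMap.range e₀) fun q => by
    obtain ⟨z, rfl⟩ := Submodule.Quotient.mk_surjective _ q
    obtain ⟨n, hn⟩ := exists_pow_mem f (LinearMap.mem_ker.mp z.2)
    refine ⟨n, fun a ha => ?_⟩
    rw [← Submodule.Quotient.mk_smul, Submodule.Quotient.mk_eq_zero]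
    obtain ⟨m, hm⟩ := hn a (hI ▸ ha)
    exact ⟨m, Subtype.ext hm⟩
  have hcomp : e₀.lTensor S x = (1 : S) ⊗ₜ[R] (⟨c, LinearMap.mem_ker.mpr hc⟩ : Z) := by
    apply Module.Flat.lTensor_preserves_injective_linearMap (M := S) Z.subtype Z.injective_subtype
    rw [← LinearMap.lTensor_comp_apply, hsub, LinearMap.lTensor_tmul]
    apply (TensorProduct.piRight R R S (fun i => Lf f M i)).injective
    refine funext fun i => ?_
    rw [show Z.subtype ⟨c, LinearMap.mem_ker.mpr hc⟩ = c from rfl]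
    simp only [TensorProduct.piRight_apply, TensorProduct.piRightHom_tmul]
    rw [← hxc i]
    clear hxc
    induction x using TensorProduct.induction_on with
    | zero => simp
    | tmul s m => simp [d₀]
    | add a b ha hb => simp only [map_add, Pi.add_apply, ha, hb]
  have h0 : (LinearMap.range e₀).mkQ ⟨c, LinearMap.mem_ker.mpr hc⟩ = 0 := hQb.1 (by
    rw [map_zero, TensorProduct.mk_apply, ← LinearMap.lTensor_tmul, ← hcomp,
      ← LinearMap.lTensor_comp_apply, LinearMap.range_mkQ_comp, LinearMap.lTensor_zero, LinearMap.zero_apply])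
  obtain ⟨μ, hμ⟩ := (Submodule.Quotient.mk_eq_zero _).mp h0
  have hμ' : d₀ f M μ = c := congrArg Subtype.val hμ
  have hk : (d₀ f M).lTensor S (x - (1 : S) ⊗ₜ[R] μ) = 0 := by
    have := congrArg (Z.subtype.lTensor S) hcomp
    rw [← LinearMap.lTensor_comp_apply, hsub, LinearMap.lTensor_tmul] at this
    rw [map_sub, this, LinearMap.lTensor_tmul, hμ']
    exact sub_self _
  letI : AddCommGroup (LinearMap.ker (d₀ f M)) := Submodule.addCommGroup _
  obtain ⟨w, hw⟩ := (Module.Flat.lTensor_exact S (LinearMap.exact_subtype_ker_map (d₀ f M)) _).mp hk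
  obtain ⟨k, rfl⟩ := (bijective_mk hq (LinearMap.ker (d₀ f M)) fun k => by
    obtain ⟨n, hn⟩ := ker_d₀_torsion f (LinearMap.mem_ker.mp k.2)
    exact ⟨n, fun a ha => Subtype.ext (hn a (hI ▸ ha))⟩).2 w
  rw [TensorProduct.mk_apply, LinearMap.lTensor_tmul] at hw
  refine ⟨μ + k, ?_, by rw [map_add, hμ', LinearMap.mem_ker.mp k.2, add_zero]⟩
  rw [TensorProduct.tmul_add, show (1 : S) ⊗ₜ[R] (k : M) = x - (1 : S) ⊗ₜ[R] μ from hw, add_sub_cancel]

/-- Every cocycle in `∏ S ⊗ M_{f_i}` comes from `S ⊗ M` and a cocycle in `∏ M_{f_i}`. -/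
theorem exists_decomp (y : Π i, S ⊗[R] Lf f M i)
    (hy : ∀ p : ι × ι, (resL f M p).lTensor S (y p.1) = (resR f M p).lTensor S (y p.2)) :
    ∃ (z : S ⊗[R] M) (c : Π i, Lf f M i), d₁ f M c = 0 ∧ ∀ i, y i = ell S f M i z + (1 : S) ⊗ₜ[R] c i := by
  classical
  cases nonempty_fintype ι
  let e := TensorProduct.piRight R R S (fun i => Lf f M i)
  let e₂ := TensorProduct.piRight R R S (fun p => Lf₂ f M p)
  have hkey : ∀ w : S ⊗[R] (Π i, Lf f M i), ∀ p,
      e₂ ((d₁ f M).lTensor S w) p = (resL f M p).lTensor S (e w p.1) - (resR f M p).lTensor S (e w p.2) := by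
    intro w p
    induction w using TensorProduct.induction_on with
    | zero => simp
    | tmul s c => simp [e, e₂, d₁_apply, TensorProduct.tmul_sub]
    | add a b ha hb => simp only [map_add, Pi.add_apply, ha, hb]; abel
  have hw : (d₁ f M).lTensor S (e.symm y) = 0 := by
    apply e₂.injective
    rw [map_zero]
    exact funext fun p => by rw [hkey, e.apply_symm_apply, Pi.zero_apply, sub_eq_zero]; exact hy p
  let Z := LinearMap.ker (d₁ f M)
  letI : AddCommGroup Z := Submodule.addCommGroup Z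
  let e₀ : M →ₗ[R] Z := LinearMap.codRestrict Z (d₀ f M) (d₁_d₀ f M)
  have hsub : Z.subtype ∘ₗ e₀ = d₀ f M := rfl
  obtain ⟨v, hv⟩ := (Module.Flat.lTensor_exact S (LinearMap.exact_subtype_ker_map (d₁ f M)) _).mp hw
  have hQb := bijective_mk hq (Z ⧸ LinearMap.range e₀) fun q => by
    obtain ⟨z, rfl⟩ := Submodule.Quotient.mk_surjective _ q
    obtain ⟨n, hn⟩ := exists_pow_mem f (LinearMap.mem_ker.mp z.2)
    refine ⟨n, fun a ha => ?_⟩
    rw [← Submodule.Quotient.mk_smul, Submodule.Quotient.mk_eq_zero]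
    obtain ⟨m, hm⟩ := hn a (hI ▸ ha)
    exact ⟨m, Subtype.ext hm⟩
  obtain ⟨q, hq'⟩ := hQb.2 ((LinearMap.range e₀).mkQ.lTensor S v)
  obtain ⟨c, rfl⟩ := Submodule.Quotient.mk_surjective _ q
  have h1 : (LinearMap.range e₀).mkQ.lTensor S (v - (1 : S) ⊗ₜ[R] c) = 0 := by
    rw [map_sub, ← hq']
    exact sub_self _
  obtain ⟨z, hz⟩ := (lTensor_exact S (LinearMap.exact_map_mkQ_range e₀) (Submodule.mkQ_surjective _) _).mp h1
  refine ⟨z, c.1, c.2, fun i => ?_⟩
  have h2 := congrArg (Z.subtype.lTensor S) hz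
  rw [← LinearMap.lTensor_comp_apply, hsub, map_sub, hv, eq_sub_iff_add_eq] at h2
  have h3 := congrFun (congrArg e h2) i
  rw [map_add, e.apply_symm_apply, Pi.add_apply] at h3
  rw [← h3]
  congr 1
  · clear h3 h2 hz
    induction z using TensorProduct.induction_on with
    | zero => simp
    | tmul s m => simp [e, d₀]
    | add a b ha hb => simp only [map_add, Pi.add_apply, ha, hb]

end Exactness

end Groth.Agent.FlatGlue
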